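import Groth.Agent.H6KP.Bundle

/-!
# Generation of `K₀` of projective space by twisted pullbacks
-/

set_option autoImplicit false
set_option linter.style.haveILetI false
set_option linter.unusedSectionVars false
set_option backward.isDefEq.respectTransparency false
set_option backward.isDefEq.respectTransparency.types false
set_option maxHeartbeats 800000

universe u

open CategoryTheory CategoryTheory.Limits AlgebraicGeometry TopologicalSpace Opposite

noncomputable section

namespace Groth.Agent.H6KP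

open Groth.Agent Groth.Agent.H23.PicMul
open Groth.Agent.KRRReg (gfst tg fdiff syz Gs counitG twP term link)

variable {r : ℕ} {S : Scheme.{u}}

/-- The subgroup generated by the twisted pullbacks in a window. -/
def span (r : ℕ) (S : Scheme.{u}) : AddSubgroup (SGA6.Kvb (KRR.PY r S)) :=
  AddSubgroup.closure {x | ∃ (N : S.Modules) (i : ℕ), FlatMod.IsFinLocFree N ∧ i ≤ r ∧ cN r N (i : ℤ) = x}

/-- All twisted pullbacks lie in the span. -/
theorem cN_mem_span {N : S.Modules} (hN : FlatMod.IsFinLocFree N) (d : ℤ) : cN r N d ∈ span r S := by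
  let π := QuotientAddGroup.mk' (span r S)
  refine (QuotientAddGroup.eq_zero_iff _).1 (KRRReg.eq_zero_of_fdiff r (fun i => π (cN r N i)) (fun j => ?_)
    (fun i hi => (QuotientAddGroup.eq_zero_iff _).2 (AddSubgroup.subset_closure ⟨N, i, hN, hi, rfl⟩)) d)
  rw [← KRRReg.fdiff_map π, fdiff_cN hN, map_zero]

/-- The modules of the resolution of a regular bundle are regular bundles. -/
theorem gs_vb {G : (KRR.PY r S).Modules} (hG : FlatMod.IsFinLocFree G) (hreg : KRR.IsRegSheaf r S G) :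
    ∀ i, FlatMod.IsFinLocFree (Gs G i) ∧
      FlatMod.IsFinLocFree ((Scheme.Modules.pushforward (KRR.pr r S)).obj (Gs G i))
  | 0 => ⟨hG, vb_push hG fun q hq => KRRReg.isZero_RpushAb_of_reg (QCoh.isQCoh_of_isFinLocFree hG) hreg q hq⟩
  | i + 1 => by
    obtain ⟨h1, h2⟩ := gs_vb hG hreg i
    obtain ⟨q1, r1, -⟩ := KRRReg.gs_props (QCoh.isQCoh_of_isFinLocFree hG) hreg i
    have hs : FlatMod.IsFinLocFree (syz (Gs G i)) :=
      vb_X₁ (KRRReg.shortExact_syz q1 r1) (KFlatLib.isFinLocFree_pullback _ h2) h1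
    have h : FlatMod.IsFinLocFree (Gs G (i + 1)) := vb_twF hs 1
    obtain ⟨q2, r2, -⟩ := KRRReg.gs_props (QCoh.isQCoh_of_isFinLocFree hG) hreg (i + 1)
    exact ⟨h, vb_push h fun q hq => KRRReg.isZero_RpushAb_of_reg q2 r2 q hq⟩

/-- Regular bundles lie in the span. -/
theorem cl_regular_mem {G : (KRR.PY r S).Modules} (hG : FlatMod.IsFinLocFree G) (hreg : KRR.IsRegSheaf r S G) :
    KRR.cl (KRR.PY r S) G ∈ span r S := by
  have hq := QCoh.isQCoh_of_isFinLocFree hG
  have key : ∀ k i : ℕ, r + 1 ≤ i + k →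
      KRR.cl (KRR.PY r S) ((twP (-(i : ℤ))).obj (syz (Gs G i))) ∈ span r S →
      KRR.cl (KRR.PY r S) ((twP (-(i : ℤ))).obj (Gs G i)) ∈ span r S := fun k i _ hs => by
    obtain ⟨hv, hp⟩ := gs_vb hG hreg i
    have hvs : FlatMod.IsFinLocFree (syz (Gs G i)) :=
      vb_X₁ (KRRReg.shortExact_syz (KRRReg.gs_props hq hreg i).1 (KRRReg.gs_props hq hreg i).2.1)
        (KFlatLib.isFinLocFree_pullback _ hp) hv
    have hT : FlatMod.IsFinLocFree (term G i) := KRRReg.isFinLocFree_tg (KFlatLib.isFinLocFree_pullback _ hp) _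
    have h := KZ.clSub_ses (KRR.vbP (KRR.PY r S)) (KRRReg.shortExact_twP hq hreg i)
      (KRRReg.isFinLocFree_tg hvs _) hT (KRRReg.isFinLocFree_tg hv _)
    have hc : KRR.cl (KRR.PY r S) (term G i) ∈ span r S := by
      show KRR.cl (KRR.PY r S) (tg ((Scheme.Modules.pullback (KRR.pr r S)).obj
        ((Scheme.Modules.pushforward (KRR.pr r S)).obj (Gs G i))) (-(i : ℤ))) ∈ span r S
      rw [cl_iso (KRRReg.tg_iso _ (-(i : ℤ))).some hT]
      exact cN_mem_span hp _
    replace h : KRR.cl (KRR.PY r S) (term G i) = KRR.cl (KRR.PY r S) ((twP (-(i : ℤ))).obj (syz (Gs G i))) +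
        KRR.cl (KRR.PY r S) ((twP (-(i : ℤ))).obj (Gs G i)) := h
    exact (AddSubgroup.add_mem_cancel_left _ hs).1 (h ▸ hc)
  have desc : ∀ k i : ℕ, r ≤ i + k → i ≤ r →
      KRR.cl (KRR.PY r S) ((twP (-(i : ℤ))).obj (Gs G i)) ∈ span r S := by
    intro k
    induction k with
    | zero =>
      intro i h1 h2
      obtain rfl : i = r := by omega
      refine key 1 _ le_rfl ?_
      rw [show KRR.cl (KRR.PY i S) _ = 0 from KZ.clSub_isZero (KRR.vbP (KRR.PY i S))
        ((twP (-(i : ℤ))).map_isZero (KRRReg.isZero_syz_last hq hreg))]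
      exact zero_mem _
    | succ k ih =>
      intro i h1 h2
      rcases eq_or_lt_of_le h2 with rfl | hlt
      · exact ih i (by omega) le_rfl
      refine key (r + 1) i (by omega) ?_
      have := ih (i + 1) (by omega) hlt
      rwa [cl_iso (link G i) (KRRReg.isFinLocFree_tg (gs_vb hG hreg (i + 1)).1 _)] at this
  have h0 : KRR.cl (KRR.PY r S) ((twP (-((0 : ℕ) : ℤ))).obj G) ∈ span r S := desc r 0 (by omega) (Nat.zero_le _)
  rwa [cl_iso (KRRReg.zeroIso G) (KRRReg.isFinLocFree_tg hG _)] at h0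

/-- Twisting preserves the span. -/
theorem twist_span_le (d : ℤ) (τ : SGA6.Kvb (KRR.PY r S) →+ SGA6.Kvb (KRR.PY r S))
    (hτ : ∀ G, FlatMod.IsFinLocFree G → τ (KRR.cl _ G) = KRR.cl _ (KRR.twF r S d G)) :
    span r S ≤ (span r S).comap τ := by
  refine (AddSubgroup.closure_le _).2 ?_
  rintro x ⟨N, i, hN, -, rfl⟩
  show τ _ ∈ span r S
  rw [show τ (cN r N (i : ℤ)) = _ from hτ _ (vb_pullTw hN _),
    cl_iso (KRRReg.twF_twF _ d (i : ℤ)).some (vb_twF (vb_pullTw hN _) _)]
  exact cN_mem_span hN _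

/-- Everything lies in the span. -/
theorem span_eq_top [CompactSpace S] : span r S = ⊤ := by
  refine eq_top_iff.2 fun x _ => ?_
  have key : (QuotientAddGroup.mk' (span r S)) = 0 := KZ.K0sub_hom_ext (KRR.vbP (KRR.PY r S)) fun F hF => by
    obtain ⟨m, hm⟩ := exists_regular (r := r) hF
    have h1 := cl_regular_mem (vb_twF hF (m : ℤ)) (hm m le_rfl)
    obtain ⟨τ, hτ⟩ := exists_twist (r := r) (S := S) (-(m : ℤ))
    have h2 : τ (KRR.cl _ (KRR.twF r S (m : ℤ) F)) ∈ span r S := twist_span_le _ τ hτ h1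
    rw [hτ _ (vb_twF hF _), cl_iso (KRRReg.twF_twF F _ _).some (vb_twF (vb_twF hF _) _), neg_add_cancel,
      cl_iso (KRRReg.twF_zero F).some (vb_twF hF 0)] at h2
    exact (QuotientAddGroup.eq_zero_iff _).2 h2
  exact (QuotientAddGroup.eq_zero_iff _).1 (DFunLike.congr_fun key x)

end Groth.Agent.H6KP
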