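import Groth.Agent.H6KP.Span
import Groth.Agent.KRRReg.PushTw
import Groth.Agent.KFlatLib.Scheme.ProjLocFree

/-!
# `K₀` of projective space is free on the twists
-/

set_option autoImplicit false
set_option linter.style.haveILetI false
set_option linter.unusedSectionVars false
set_option backward.isDefEq.respectTransparency false
set_option backward.isDefEq.respectTransparency.types false
set_option maxHeartbeats 800000

universe u

open CategoryTheory CategoryTheory.Limits AlgebraicGeometry TopologicalSpace Opposite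

noncomputable section

namespace Groth.Agent.H6KP

open Groth.Agent Groth.Agent.H23.PicMul
open Groth.Agent.KRRReg (gfst fdiff Y0)

variable {r : ℕ} {S : Scheme.{u}}

/-- `p_* O(d)` is free for nonnegative `d`. -/
theorem push_free (r : ℕ) (S : Scheme.{u}) (d : ℕ) :
    Nonempty ((Scheme.Modules.pushforward (KRR.pr r S)).obj
        (KRR.twF r S (d : ℤ) (Coh.structureModule (KRR.PY r S))) ≅
      FlatMod.freeMod S (Nat.choose (r + d) d)) := by
  let φ : S ⟶ Y0.{u} := specULiftZIsTerminal.from S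
  have hsq : KRR.projSpaceMap r φ ≫ KRR.pr r Y0 = KRR.pr r S ≫ φ := specULiftZIsTerminal.hom_ext _ _
  let F₀ := KRR.twF r Y0.{u} (d : ℤ) (Coh.structureModule (KRR.PY r Y0))
  haveI := KRRReg.isIso_bcMap φ hsq (KRRReg.isFinLocFree_twF_structure Y0 (d : ℤ))
    (KRRReg.isRegSheaf_twF_structure (n := r) Y0 d)
  obtain ⟨e⟩ := KRRReg.nonempty_push_Y0_iso.{u} (n := r) d
  obtain ⟨c⟩ := KRRReg.twF_pullback_iso φ (Coh.structureModule (KRR.PY r Y0)) (d : ℤ)
  obtain ⟨s⟩ := PicClLib.nonempty_pullback_structureModule (KRR.projSpaceMap r φ)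
  exact ⟨(Scheme.Modules.pushforward (KRR.pr r S)).mapIso
      ((DCoh.tensorBi.obj (Twist.twistOver r S (d : ℤ))).mapIso s.symm ≪≫ c) ≪≫
    (asIso (KRR.bcMap r φ hsq F₀)).symm ≪≫ (Scheme.Modules.pullback φ).mapIso e ≪≫ KFlatLib.pullFreeIso φ _⟩

/-- The class of the pushforward of a twisted pullback. -/
theorem push_twN {N : S.Modules} (hN : FlatMod.IsFinLocFree N) (d : ℕ) :
    KRR.cl S ((Scheme.Modules.pushforward (KRR.pr r S)).obj
      (KRR.twF r S (d : ℤ) ((Scheme.Modules.pullback (KRR.pr r S)).obj N))) =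
      Nat.choose (r + d) d • KRR.cl S N := by
  let p := KRR.pr r S
  haveI := KRRReg.isProper_pr (n := r) (T := S)
  haveI := SpObjSS.enoughInjectives_of_hasInjectiveResolutions (C := (KRR.PY r S).Modules)
  haveI := QCoh.preservesFiniteLimits_push p
  let F := KRR.twF r S (d : ℤ) (Coh.structureModule (KRR.PY r S))
  obtain ⟨α⟩ : Nonempty (CohB1.tensorMod ((Scheme.Modules.pullback p).obj N) F ≅
      KRR.twF r S (d : ℤ) ((Scheme.Modules.pullback p).obj N)) :=
    cl_eq_iff.1 (by rw [cl_tensor, KRRReg.cl_twF, KRRReg.cl_twF,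
      show PicF.cl (Coh.structureModule (KRR.PY r S)) = 1 from rfl, mul_one, mul_comm])
  obtain ⟨c⟩ := KFlatLib.nonempty_rpush_tensor_finLocFree p F N hN 0
  obtain ⟨e⟩ := push_free r S d
  let z := (Scheme.Modules.pushforward p).rightDerivedZeroIsoSelf
  let ε : (Scheme.Modules.pushforward p).obj (KRR.twF r S (d : ℤ) ((Scheme.Modules.pullback p).obj N)) ≅
      (DCoh.tensorBi.obj N).obj (FlatMod.freeMod S (Nat.choose (r + d) d)) :=
    (Scheme.Modules.pushforward p).mapIso α.symm ≪≫ (z.app _).symm ≪≫ c.symm ≪≫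
      (DCoh.tensorBi.obj N).mapIso (z.app F ≪≫ e)
  have hfree := KFlatLib.isFinLocFree_freeMod (X := S) (Nat.choose (r + d) d)
  rw [cl_iso ε (H23.PullPush.isFinLocFree_of_iso ε.symm (KFlatLib.isFinLocFree_tensor hN hfree))]
  obtain ⟨m, hm⟩ := KRRReg.exists_mulHom S
  rw [← hm N _ hN hfree, KRRReg.cl_freeMod, map_nsmul, hm N _ hN (KRRReg.isFinLocFree_structure S)]
  congr 1
  refine cl_iso (cl_eq_iff.1 ?_).some (KFlatLib.isFinLocFree_tensor hN (KRRReg.isFinLocFree_structure S))
  show PicF.cl (CohB1.tensorMod N (Coh.structureModule S)) = _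
  rw [cl_tensor]
  exact mul_one _

/-- Evaluation of `mapSub` on classes. -/
theorem mapSub_cl {A : Type*} [Category A] [Abelian A] {B : Type*} [Category B] [Abelian B] (F : A ⥤ B)
    [F.Additive] [PreservesFiniteLimits F] [PreservesFiniteColimits F] (P : ObjectProperty A) (Q : ObjectProperty B)
    (h : ∀ X, P X → Q (F.obj X)) {X : A} (hX : P X) :
    SGA6.mapSub F P Q h (KZero.clSub P X) = KZero.clSub Q (F.obj X) := by
  rw [KZ.clSub_of_prop P hX, KZ.clSub_of_prop Q (h X hX)]
  rfl

/-- Freeness on the twists, for additive maps with the prescribed values on classes. -/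
theorem bijective_of_values [CompactSpace S] (L : (Fin (r + 1) → SGA6.Kvb S) →+ SGA6.Kvb (KRR.PY r S))
    (hL : ∀ (i : Fin (r + 1)) (N : S.Modules), FlatMod.IsFinLocFree N →
      L (Pi.single i (KRR.cl S N)) = cN r N ((i : ℕ) : ℤ)) : Function.Bijective L := by
  constructor
  · refine (injective_iff_map_eq_zero L).2 fun x hx => ?_
    obtain ⟨χ, hχ⟩ := exists_pushHom (r := r) (S := S)
    let c : ℕ → Fin (r + 1) → ℕ := fun n i => Nat.choose (r + (n + i)) (n + i)
    have hψ : ∀ (i : Fin (r + 1)) (y : SGA6.Kvb S),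
        χ (L (Pi.single i y)) = QuotientAddGroup.mk (fun n => c n i • y) := by
      intro i
      let B : SGA6.Kvb S →+ (ℕ → SGA6.Kvb S) ⧸ evZero (SGA6.Kvb S) :=
        (QuotientAddGroup.mk' _).comp (Pi.addMonoidHom fun n => c n i • AddMonoidHom.id (SGA6.Kvb S))
      refine fun y => DFunLike.congr_fun (KZ.K0sub_hom_ext (KRR.vbP S)
        (f := χ.comp (L.comp (AddMonoidHom.single (fun _ : Fin (r + 1) => SGA6.Kvb S) i))) (g := B) fun N hN => ?_) y
      show χ (L (Pi.single i (KRR.cl S N))) = QuotientAddGroup.mk (fun n => c n i • KRR.cl S N)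
      rw [hL i N hN, cN, hχ _ (vb_pullTw hN _), QuotientAddGroup.eq]
      obtain ⟨a, ha⟩ := good (r := r) (vb_pullTw (r := r) hN ((i : ℕ) : ℤ))
      refine ⟨a, fun n hn => ?_⟩
      rw [Pi.add_apply, Pi.neg_apply, neg_add_eq_zero]
      obtain ⟨e⟩ := KRRReg.twF_twF ((Scheme.Modules.pullback (KRR.pr r S)).obj N) (n : ℤ) ((i : ℕ) : ℤ)
      rw [← Nat.cast_add] at e
      show KRR.cl S _ = _
      rw [cl_iso ((Scheme.Modules.pushforward (KRR.pr r S)).mapIso e) (ha n hn).2]
      exact push_twN hN _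
    have hsum : χ (L x) = QuotientAddGroup.mk (fun n => ∑ i, c n i • x i) := by
      conv_lhs => rw [← Finset.univ_sum_single x, map_sum, map_sum]
      simp only [hψ]
      exact (map_sum (QuotientAddGroup.mk' (evZero (SGA6.Kvb S))) (fun i n => c n i • x i) Finset.univ).symm.trans
        (congrArg _ (funext fun n => Finset.sum_apply _ _ _))
    rw [hx, map_zero, eq_comm, QuotientAddGroup.eq_zero_iff] at hsum
    obtain ⟨n₀, hn₀⟩ := hsum
    let Φ : (Fin (r + 1) → ℤ) →+ SGA6.Kvb S :=
      { toFun := fun v => ∑ i, v i • x i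
        map_zero' := by simp
        map_add' := fun v w => by simp [add_smul, Finset.sum_add_distrib] }
    let vec : ℤ → Fin (r + 1) → ℤ := fun t i => Ring.choose (t + ((i : ℕ) + r : ℕ)) r
    have hΔ : ∀ j, fdiff (r + 1) (fun t => Φ (vec t)) j = 0 := fun j => by
      rw [← KRRReg.fdiff_map Φ]
      refine (congrArg Φ (funext fun i => ?_)).trans (map_zero Φ)
      show Pi.evalAddMonoidHom (fun _ : Fin (r + 1) => ℤ) i (fdiff (r + 1) vec j) = 0
      rw [KRRReg.fdiff_map]
      exact KRRReg.fdiff_choose r _ j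
    have hb : ∀ t : ℤ, Φ (vec t) = 0 := fun t => by
      have := KRRReg.eq_zero_of_fdiff r (fun s => Φ (vec (s + n₀)))
        (fun j => (KRRReg.fdiff_shift (fun s => Φ (vec s)) n₀ _ j).trans (hΔ _))
        (fun k _ => by
          refine (Finset.sum_congr rfl fun i _ => ?_).trans (hn₀ (k + n₀) (Nat.le_add_left _ _))
          show Ring.choose ((k : ℤ) + n₀ + ((i : ℕ) + r : ℕ)) r • x i = Nat.choose (r + (k + n₀ + i)) (k + n₀ + i) • x i
          rw [show (k : ℤ) + n₀ + ((i : ℕ) + r : ℕ) = ((k + n₀ + i + r : ℕ) : ℤ) by push_cast; ring,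
            Ring.choose_natCast, natCast_zsmul, ← Nat.choose_symm_add,
            Nat.add_comm (k + n₀ + (i : ℕ)) r])
        (t - n₀)
      simpa using this
    have key : ∀ k : ℕ, ∀ i : Fin (r + 1), r < (i : ℕ) + k → x i = 0 := by
      intro k
      induction k with
      | zero => intro i hi; have := i.2; omega
      | succ k ih =>
        intro i hi
        by_cases h : r < (i : ℕ) + k
        · exact ih i h
        have h0 : Φ (vec (-((i : ℕ) : ℤ))) = x i := by
          refine (Finset.sum_eq_single i (fun l _ hl => ?_) (fun h' => absurd (Finset.mem_univ i) h')).trans ?_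
          · rcases Nat.lt_or_gt_of_ne (fun h' => hl (Fin.ext h')) with hlt | hgt
            · show Ring.choose (-((i : ℕ) : ℤ) + ((l : ℕ) + r : ℕ)) r • x l = 0
              rw [show -((i : ℕ) : ℤ) + ((l : ℕ) + r : ℕ) = (((l : ℕ) + r - i : ℕ) : ℤ) by have := i.2; omega,
                Ring.choose_natCast, Nat.choose_eq_zero_of_lt (by omega)]
              simp
            · rw [ih l (by omega), smul_zero]
          · show Ring.choose (-((i : ℕ) : ℤ) + ((i : ℕ) + r : ℕ)) r • x i = x i
            rw [show -((i : ℕ) : ℤ) + ((i : ℕ) + r : ℕ) = (r : ℤ) by omega, Ring.choose_natCast, Nat.choose_self]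
            simp
        rw [← h0, hb]
    exact funext fun i => key (r + 1) i (by omega)
  · intro y
    have h : span r S ≤ L.range := by
      refine (AddSubgroup.closure_le _).2 ?_
      rintro z ⟨N, i, hN, hi, rfl⟩
      exact ⟨Pi.single ⟨i, Nat.lt_succ_of_le hi⟩ (KRR.cl S N), hL _ N hN⟩
    exact h (by rw [span_eq_top]; exact AddSubgroup.mem_top y)

end Groth.Agent.H6KP
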