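import Groth.Agent.H6KP.PushClass
import Groth.Agent.KRRReg.PushTw
import Groth.Agent.KRRReg.RingModel
import Groth.Agent.KFlatLib.Perfect.Top
import Groth.Agent.ExtPowSh.Filt
import Groth.Agent.PBC.Deg0Glob
import Groth.Agent.KFlatLib.Scheme.ProjLocFree

/-!
# Bundles on projective space over an arbitrary base
-/

set_option autoImplicit false
set_option linter.style.haveILetI false
set_option linter.unusedSectionVars false
set_option backward.isDefEq.respectTransparency false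
set_option backward.isDefEq.respectTransparency.types false
set_option maxHeartbeats 800000

universe u

open CategoryTheory CategoryTheory.Limits AlgebraicGeometry TopologicalSpace Opposite

noncomputable section

namespace Groth.Agent.H6KP

open Groth.Agent Groth.Agent.H23.PicMul
open Groth.Agent.KRRReg (Pz Zu O tw gfst Reg UV tg GoodP fdiff coords mulX mulX_comm covered)
open Groth.Agent.KoszulChop

variable {r : ℕ} {S : Scheme.{u}}

theorem vb_X₁ {X : Scheme.{u}} {T : ShortComplex X.Modules} (hT : T.ShortExact)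
    (h₂ : FlatMod.IsFinLocFree T.X₂) (h₃ : FlatMod.IsFinLocFree T.X₃) : FlatMod.IsFinLocFree T.X₁ := by
  haveI := hT.epi_g
  exact H23.PullPush.isFinLocFree_of_iso
    (IsLimit.conePointUniqueUpToIso (kernelIsKernel T.g) hT.fIsKernel)
    (KFlatLib.isFinLocFree_kernel T.g h₂ h₃)

theorem vb_X₂ {X : Scheme.{u}} {T : ShortComplex X.Modules} (hT : T.ShortExact)
    (h₁ : FlatMod.IsFinLocFree T.X₁) (h₃ : FlatMod.IsFinLocFree T.X₃) : FlatMod.IsFinLocFree T.X₂ :=
  ExtPowSh.isFinLocFree_X₂ hT (QCoh.isQCoh_of_isFinLocFree h₁) h₁ h₃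

theorem good_vb (X : Scheme.{u}) : GoodP (KRR.vbP X) where
  zero _ hZ := KRRReg.isFinLocFree_zero hZ
  biprod A B hA hB := vb_X₂ (ShortComplex.Splitting.ofHasBinaryBiproduct A B).shortExact hA hB

theorem vb_kernel {F : (KRR.PY r S).Modules} (hF : FlatMod.IsFinLocFree F) (d : ℤ) :
    ∀ p, FlatMod.IsFinLocFree (kernel (dd (tg F) (mulX (gfst r S) F) (coords r) d p))
  | 0 => by
    haveI := epi_dd (tg F) (mulX (gfst r S) F) (mulX_comm (gfst r S) F) (coords r) (covered (gfst r S) F) d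
    exact vb_X₁ (KZ.kerSeq_shortExact (dd (tg F) (mulX (gfst r S) F) (coords r) d 0))
      ((good_vb _).obj (tg F) _ d 1 fun _ => KRRReg.isFinLocFree_tg hF _)
      ((good_vb _).obj (tg F) _ d 0 fun _ => KRRReg.isFinLocFree_tg hF _)
  | p + 1 => vb_X₁ (shortExact_piece (tg F) (mulX (gfst r S) F) (mulX_comm (gfst r S) F) (coords r) d p
      (exact_dd (tg F) (mulX (gfst r S) F) (mulX_comm (gfst r S) F) (coords r) (covered (gfst r S) F) d p))
      ((good_vb _).obj (tg F) _ d (p + 2) fun _ => KRRReg.isFinLocFree_tg hF _) (vb_kernel hF d p)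

/-- The Koszul relation. -/
theorem fdiff_vb {F : (KRR.PY r S).Modules} (hF : FlatMod.IsFinLocFree F) (j : ℤ) :
    fdiff (r + 1) (fun i => KZero.clSub (KRR.vbP (KRR.PY r S)) (tg F i)) j = 0 := by
  have h := (good_vb _).fdiff_eq_zero (tg F) (mulX (gfst r S) F) (mulX_comm (gfst r S) F) (coords r)
    (covered (gfst r S) F) (j + (r + 1 : ℕ)) (fun p _ => KRRReg.isFinLocFree_tg hF _) (vb_kernel hF _)
  rwa [KRRReg.length_coords, add_sub_cancel_right] at h

/-- Bundles stay bundles under twisting. -/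
theorem vb_twF {F : (KRR.PY r S).Modules} (hF : FlatMod.IsFinLocFree F) (d : ℤ) :
    FlatMod.IsFinLocFree (KRR.twF r S d F) :=
  H23.PullPush.isFinLocFree_of_iso (KRRReg.tg_iso F d).some (KRRReg.isFinLocFree_tg hF d)

/-- Vanishing of higher direct images of a bundle gives vanishing on the fibres. -/
theorem fiberH_of_RpushAb {G : (KRR.PY r S).Modules} (hG : FlatMod.IsFinLocFree G)
    (h : ∀ q : ℕ, 1 ≤ q → IsZero ((Coh.RpushAb (KRR.pr r S) q).obj (Coh.toAb G))) (y : S) (q : ℕ) (hq : 1 ≤ q) :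
    Subsingleton (CohIII.fiberH (KRR.pr r S) G y q) := by
  haveI := KRRReg.isProper_pr (n := r) (T := S)
  haveI := lfp_pr (r := r) (S := S)
  obtain ⟨_, ⟨V, hV, rfl⟩, hyV, -⟩ :=
    S.isBasis_affineOpens.exists_subset_of_mem_open (Set.mem_univ y) isOpen_univ
  have hV' : IsAffineOpen V := hV
  obtain ⟨g₀, p₀, h₀, hg₀, -⟩ := PBC.exists_fibre_square (KRR.pr r S) (F := G) (QCoh.isFP_of_isFinLocFree hG) hV' hyV
  let K : Type u := (hV'.primeIdealOf ⟨y, hyV⟩).asIdeal.ResidueField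
  letI : (UV r V).toScheme.Over (Spec (CommRingCat.of Γ(S, V))) := ⟨QCoh.overSpec (KRR.pr r S) hV'⟩
  letI : ((KRR.pr r S).fiber y).Over (Spec (CommRingCat.of K)) := ⟨p₀⟩
  haveI : IsProper ((UV r V).toScheme ↘ Spec (CommRingCat.of Γ(S, V))) :=
    inferInstanceAs (IsProper ((KRR.pr r S ∣_ V) ≫ hV'.isoSpec.hom))
  haveI : CompactSpace (UV r V).toScheme := AmpleVan.compactSpace_of_proper (A := Γ(S, V))
  haveI := AmpleVan.isSeparated_of_proper (X := (UV r V).toScheme) (A := Γ(S, V))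
  haveI : Flat (QCoh.overSpec (KRR.pr r S) hV') := KRRReg.flat_overSpec hV'
  let GU := (Scheme.Modules.pullback (UV r V).ι).obj G
  have hGU : FlatMod.IsFinLocFree GU := KFlatLib.isFinLocFree_pullback _ hG
  have hv : ∀ p : ℕ, 0 < p → Subsingleton (Coh.HH (UV r V).toScheme GU p) := fun p hp => by
    obtain ⟨k, rfl⟩ : ∃ k, p = k + 1 := ⟨p - 1, by omega⟩
    exact QCoh.subsingleton_HH_of_iso ((Scheme.Modules.restrictFunctorIsoPullback (UV r V).ι).app G) _
      ((KRRReg.isZero_RpushAb_iff G (QCoh.isQCoh_of_isFinLocFree hG) k).1 (h _ hp) ⟨V, hV'⟩)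
  have hq' := KRRReg.subsingleton_HH_baseChange (A := Γ(S, V)) (B := K) (φ := g₀) h₀
    (QCoh.isQCoh_of_isFinLocFree hGU)
    (KRRReg.isFlatOver_of_flat (QCoh.overSpec (KRR.pr r S) hV') hGU) hv q hq
  exact QCoh.subsingleton_HH_of_iso ((Scheme.Modules.pullbackComp g₀ _).app G ≪≫
    (Scheme.Modules.pullbackCongr hg₀).app G) q hq'

/-- Pushforwards of bundles without higher direct images are bundles. -/
theorem vb_push {G : (KRR.PY r S).Modules} (hG : FlatMod.IsFinLocFree G)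
    (h : ∀ q : ℕ, 1 ≤ q → IsZero ((Coh.RpushAb (KRR.pr r S) q).obj (Coh.toAb G))) :
    FlatMod.IsFinLocFree ((Scheme.Modules.pushforward (KRR.pr r S)).obj G) := by
  haveI := KRRReg.isProper_pr (n := r) (T := S)
  haveI := lfp_pr (r := r) (S := S)
  have h0 := PBC.isFinLocFree_restrict_of_fiberH (KRR.pr r S) G (QCoh.isFP_of_isFinLocFree hG)
    (KRRReg.isFlatOver_finLocFree hG) 0 ⊤
    (fun y _ => fiberH_of_RpushAb hG h y 1 le_rfl) (fun y _ j hj => absurd hj (Nat.succ_ne_zero j))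
  let R0 := (Coh.Rpush (KRR.pr r S) 0).obj G
  have h1 : FlatMod.IsFinLocFree R0 := by
    let g := (Scheme.topIso S).inv
    have hg : g ≫ (⊤ : S.Opens).ι = 𝟙 S := by simp [g]
    exact H23.PullPush.isFinLocFree_of_iso
      ((Scheme.Modules.pullbackComp g _).app R0 ≪≫ (Scheme.Modules.pullbackCongr hg).app R0 ≪≫
        (Scheme.Modules.pullbackId S).app R0)
      (KFlatLib.isFinLocFree_pullback g (H23.PullPush.isFinLocFree_of_iso
        ((Scheme.Modules.restrictFunctorIsoPullback (⊤ : S.Opens).ι).app R0) h0))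
  haveI := QCoh.preservesFiniteLimits_push (KRR.pr r S)
  exact H23.PullPush.isFinLocFree_of_iso
    ((Scheme.Modules.pushforward (KRR.pr r S)).rightDerivedZeroIsoSelf.app G) h1

/-- Large twists of a bundle are regular. -/
theorem exists_regular [CompactSpace S] {F : (KRR.PY r S).Modules} (hF : FlatMod.IsFinLocFree F) :
    ∃ m₀ : ℕ, ∀ m : ℕ, m₀ ≤ m → KRR.IsRegSheaf r S (KRR.twF r S (m : ℤ) F) := by
  obtain ⟨N, hN⟩ := good (r := r) (S := S) hF
  refine ⟨N + r, fun m hm q hq => ?_⟩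
  obtain ⟨p, rfl⟩ := Nat.exists_eq_add_of_le' hq
  obtain ⟨e⟩ := KRRReg.twF_twF F (-((p + 1 : ℕ) : ℤ)) (m : ℤ)
  by_cases hpr : p + 1 ≤ r
  · refine KRRReg.isZero_RpushAb_of_iso e.symm _ ?_
    rw [show -((p + 1 : ℕ) : ℤ) + (m : ℤ) = ((m - (p + 1) : ℕ) : ℤ) by omega]
    exact (hN _ (by omega)).1 (p + 1) hq
  · have hqc := KRRReg.isQCoh_twF (KRRReg.isQCoh_twF (QCoh.isQCoh_of_isFinLocFree hF) (m : ℤ)) (-((p + 1 : ℕ) : ℤ))
    exact (KRRReg.isZero_RpushAb_iff _ hqc p).2 fun V => KRRReg.subsingleton_HH_UV_gt hqc V _ (by omega)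

/-- The class of `O(d) ⊗ π^* N`. -/
def cN (r : ℕ) {S : Scheme.{u}} (N : S.Modules) (d : ℤ) : SGA6.Kvb (KRR.PY r S) :=
  KRR.cl (KRR.PY r S) (KRR.twF r S d ((Scheme.Modules.pullback (KRR.pr r S)).obj N))

theorem vb_pullTw {N : S.Modules} (hN : FlatMod.IsFinLocFree N) (d : ℤ) :
    FlatMod.IsFinLocFree (KRR.twF r S d ((Scheme.Modules.pullback (KRR.pr r S)).obj N)) :=
  vb_twF (KFlatLib.isFinLocFree_pullback _ hN) d

theorem fdiff_cN {N : S.Modules} (hN : FlatMod.IsFinLocFree N) (j : ℤ) : fdiff (r + 1) (cN r N) j = 0 := by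
  refine Eq.trans ?_ (fdiff_vb (r := r) (KFlatLib.isFinLocFree_pullback (KRR.pr r S) hN) j)
  refine KRRReg.fdiff_congr (m := j) (fun i _ => ?_) _ j le_rfl
  exact (cl_iso (KRRReg.tg_iso _ i).some (KRRReg.isFinLocFree_tg (KFlatLib.isFinLocFree_pullback _ hN) i)).symm

/-- Twisting on classes. -/
theorem exists_twist (d : ℤ) : ∃ τ : SGA6.Kvb (KRR.PY r S) →+ SGA6.Kvb (KRR.PY r S),
    ∀ G, FlatMod.IsFinLocFree G → τ (KRR.cl _ G) = KRR.cl _ (KRR.twF r S d G) := by
  obtain ⟨τ, hτ⟩ := KZ.exists_liftSub (KRR.vbP (KRR.PY r S)) (fun G => KRR.cl _ (tg G d)) fun T hT h₁ h₂ h₃ =>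
    KZ.clSub_ses (KRR.vbP (KRR.PY r S)) (KRRReg.shortExact_tw (g := gfst r S) hT d)
      (KRRReg.isFinLocFree_tg h₁ d) (KRRReg.isFinLocFree_tg h₂ d) (KRRReg.isFinLocFree_tg h₃ d)
  exact ⟨τ, fun G hG => (hτ G hG).trans (cl_iso (KRRReg.tg_iso G d).some (KRRReg.isFinLocFree_tg hG d))⟩

end Groth.Agent.H6KP
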