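import Groth.Agent.KRRReg.LocFree
import Groth.Agent.KRRReg.Res
import Groth.Agent.KRRReg.Section
import Groth.Agent.PBC.Higher
import Groth.Agent.HilbSnap.GeClosed
import Groth.Agent.HilbSnap.Basic
import Groth.Agent.QCoh.RpushModel

/-!
# Eventual vanishing for flat finitely presented modules on projective space over a quasi-compact base
-/

set_option autoImplicit false
set_option linter.style.haveILetI false
set_option linter.unusedSectionVars false
set_option backward.isDefEq.respectTransparency false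
set_option backward.isDefEq.respectTransparency.types false
set_option maxHeartbeats 800000

universe u

open CategoryTheory CategoryTheory.Limits AlgebraicGeometry TopologicalSpace Opposite

noncomputable section

namespace Groth.Agent.H6KP

open Groth.Agent Groth.Agent.H23.PicMul
open Groth.Agent.KRRReg (Pz Zu O tw gfst Reg UV)

variable {r : ℕ} {S : Scheme.{u}} (s : S)

/-- The map of a fibre of projective space to projective space. -/
abbrev gs : (KRR.pr r S).fiber s ⟶ Pz r := (KRR.pr r S).fiberι s ≫ gfst r S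

theorem isPullback_gs : IsPullback (gs (r := r) s) ((KRR.pr r S).fiberToSpecResidueField s)
    (CohB1.ProjSpace.toSpec r Zu.{u}) (specULiftZIsTerminal.from (Spec (S.residueField s))) := by
  have h1 : IsPullback ((KRR.pr r S).fiberι s) ((KRR.pr r S).fiberToSpecResidueField s) (KRR.pr r S)
      (S.fromSpecResidueField s) := IsPullback.of_hasPullback _ _
  have h2 : IsPullback (gfst r S) (KRR.pr r S) (CohB1.ProjSpace.toSpec r Zu.{u}) (specULiftZIsTerminal.from S) :=
    IsPullback.of_hasPullback _ _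
  have h := h1.paste_horiz h2
  rwa [specULiftZIsTerminal.hom_ext (S.fromSpecResidueField s ≫ specULiftZIsTerminal.from S)
    (specULiftZIsTerminal.from _)] at h

theorem isAmple_gs : CohB1.IsAmple (O (gs (r := r) s) 1) := by
  classical
  haveI : IsProper (CohB1.ProjSpace.toSpec r Zu.{u}) := PnCoh.Chow.isProper_toSpec r _
  let T := Finset.image (fun j : Fin (r + 1) =>
    (MvPolynomial.X j : MvPolynomial (Fin (r + 1)) Zu.{u})) Finset.univ
  have hT : CohB1.IsAmple (Twist.twistProjSpace r Zu.{u} 1) := by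
    refine AmpleX.isAmple_twist_one (CohB1.polyGrading r Zu.{u}) T (fun f hf => ?_)
      (top_le_iff.1 fun y _ => ?_)
    · obtain ⟨j, -, rfl⟩ := Finset.mem_image.1 hf
      exact ProjPt.X_mem j
    · obtain ⟨j, hj⟩ := ProjUPX.cov_X y
      exact Opens.mem_iSup.2 ⟨⟨_, Finset.mem_image.2 ⟨j, Finset.mem_univ _, rfl⟩⟩, hj⟩
  exact HilbSnap.isAmple_of_affine_square (isPullback_gs s) hT

variable {F : (KRR.PY r S).Modules}

/-- Restricting twists to fibres. -/
theorem fiberMod_twF_iso (F : (KRR.PY r S).Modules) (d : ℤ) :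
    Nonempty (CohIII.fiberMod (KRR.pr r S) (KRR.twF r S d F) s ≅
      tw (gs s) (CohIII.fiberMod (KRR.pr r S) F s) d) := by
  refine cl_eq_iff.1 ?_
  show PicF.pullCl ((KRR.pr r S).fiberι s) (PicF.cl (KRR.twF r S d F)) = _
  rw [KRRReg.cl_twF, pullCl_mul, cl_tensor, mul_comm]
  refine congrArg (PicF.cl (CohIII.fiberMod (KRR.pr r S) F s) * ·) ?_
  show PicF.pullCl ((KRR.pr r S).fiberι s) (PicF.pullCl (gfst r S) (PicF.cl (Twist.twistProjSpace r Zu.{u} d))) =
    PicF.pullCl (gs s) (PicF.cl (Twist.twistProjSpace r Zu.{u} d))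
  exact PicClLib.pullCl_comp _ _ _

theorem lfp_pr : LocallyOfFinitePresentation (KRR.pr r S) := by
  haveI : Smooth (CohB1.ProjSpace.toSpec r Zu.{u}) := KRRReg.smooth_toSpec r _
  unfold KRR.pr CohB1.ProjSpaceOver.toBase KRR.PY CohB1.ProjSpaceOver
  infer_instance

/-- Large twists kill higher cohomology of a fibre. -/
theorem exists_fiber_bound (hF : CohB1.IsFP F) :
    ∃ d₀ : ℕ, ∀ d : ℕ, d₀ ≤ d → ∀ q,
      Subsingleton (CohIII.fiberH (KRR.pr r S) (KRR.twF r S (d : ℤ) F) s (q + 1)) := by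
  haveI := KRRReg.isProper_pr (n := r) (T := S)
  letI : ((KRR.pr r S).fiber s).Over (Spec (CommRingCat.of (S.residueField s))) :=
    ⟨(KRR.pr r S).fiberToSpecResidueField s⟩
  haveI : IsProper ((KRR.pr r S).fiber s ↘ Spec (CommRingCat.of (S.residueField s))) :=
    inferInstanceAs (IsProper (pullback.snd (KRR.pr r S) (S.fromSpecResidueField s)))
  have hFs : CohB1.IsFP (CohIII.fiberMod (KRR.pr r S) F s) := ModStLib.isFP_pullback _ hF
  obtain ⟨d₀, hd₀⟩ := AmpleVan.exists_vanishing (A := (S.residueField s : Type u)) (X := (KRR.pr r S).fiber s)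
    (isAmple_gs s) (M := CohIII.fiberMod (KRR.pr r S) F s) ⟨QCoh.isQCoh_of_isFP hFs, QCoh.isFT_of_isFP hFs⟩
  refine ⟨d₀, fun d hd q => QCoh.subsingleton_HH_of_iso
    ((fiberMod_twF_iso s F (d : ℤ)).some ≪≫ (cl_eq_iff.1 (?_ : PicF.cl (tw (gs s) (CohIII.fiberMod (KRR.pr r S) F s) (d : ℤ)) =
      PicF.cl (CohB1.tensorMod (CohIII.fiberMod (KRR.pr r S) F s) (CohB1.tensorPow (O (gs s) 1) d)))).some).symm _
    (hd₀ d hd q)⟩
  rw [cl_tensor, cl_tensor, cl_tensorPow, KRRReg.cl_O_pow]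

/-- Vanishing in degrees above the dimension. -/
theorem fiber_gt (hF : Coh.IsQCoh F) (d : ℤ) (q : ℕ) (hq : r + 1 ≤ q) :
    Subsingleton (CohIII.fiberH (KRR.pr r S) (KRR.twF r S d F) s q) := by
  haveI : IsAffineHom (specULiftZIsTerminal.from (Spec (S.residueField s))) := isAffineHom_of_isAffine _
  haveI : IsAffineHom (gs (r := r) s) := MorphismProperty.of_isPullback (isPullback_gs s).flip inferInstance
  exact QCoh.HH_subsingleton_of_cover (X := (KRR.pr r S).fiber s) (r + 1)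
    (fun j => (gs (r := r) s) ⁻¹ᵁ PnCoh.mOpen Zu.{u} (Finsupp.single (j : Fin (r + 1)) 1))
    (fun _ => (PnCoh.isAffineOpen_mOpen (Finsupp.single_ne_zero.2 one_ne_zero)).preimage _)
    (by rw [← Scheme.Hom.preimage_iSup, PnCoh.iSup_mOpen_single]; rfl)
    (fun _ _ hV hW => by
      haveI : ((KRR.pr r S).fiber s).IsSeparated := AmpleX.isSeparated_of_isAmple (isAmple_gs s)
      exact IsAffineOpen.inf hV hW) (QCoh.isQCoh_pullback _ (KRRReg.isQCoh_twF hF _)) q hq

/-- Regularity on a fibre propagates to all higher twists. -/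
theorem fiber_of_reg (hF : Coh.IsQCoh F) (d : ℤ)
    (h : ∀ q : Fin r, Subsingleton (CohIII.fiberH (KRR.pr r S) (KRR.twF r S (d - ((q : ℕ) + 1 : ℕ)) F) s ((q : ℕ) + 1)))
    (e : ℤ) (he : d ≤ e) (q : ℕ) (hq : 1 ≤ q) :
    Subsingleton (CohIII.fiberH (KRR.pr r S) (KRR.twF r S e F) s q) := by
  let G := tw (gs s) (CohIII.fiberMod (KRR.pr r S) F s) d
  have hGe : ∀ a : ℤ, Nonempty (CohIII.fiberMod (KRR.pr r S) (KRR.twF r S (d + a) F) s ≅ tw (gs s) G a) := fun a => by
    refine ⟨(fiberMod_twF_iso s F _).some ≪≫ (cl_eq_iff.1 ?_).some⟩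
    rw [cl_tensor, cl_tensor, cl_tensor, KRRReg.cl_O_add, mul_assoc]
  have hR : Reg (gs s) G := fun i hi => by
    refine QCoh.subsingleton_HH_of_iso (hGe _).some _ ?_
    by_cases hir : i ≤ r
    · have := h ⟨i - 1, by omega⟩
      simp only [show i - 1 + 1 = i by omega] at this
      rw [← sub_eq_add_neg]
      exact this
    · exact fiber_gt s hF _ i (by omega)
  have := QCoh.subsingleton_HH_of_iso (hGe (e - d)).some.symm q
    (KRRReg.reg_of_nonneg hR (e - d) q hq (by omega))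
  rwa [add_sub_cancel] at this

/-- Flat finitely presented modules have uniformly vanishing higher fibre cohomology after large twists. -/
theorem exists_uniform_bound [CompactSpace S] (hF : CohB1.IsFP F) (hfl : FlatMod.IsFlatOver (KRR.pr r S) F) :
    ∃ N : ℕ, ∀ d : ℕ, N ≤ d → ∀ (y : S) (q : ℕ), 1 ≤ q →
      Subsingleton (CohIII.fiberH (KRR.pr r S) (KRR.twF r S (d : ℤ) F) y q) := by
  haveI := KRRReg.isProper_pr (n := r) (T := S)
  haveI := lfp_pr (r := r) (S := S)
  have hO : ∀ d : ℤ, PicF.IsInvertible (O (gfst r S) d) := fun d =>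
    PicClLib.isInvertible_pullback _ (TwistFlat.isInvertible_twistProjSpace r _)
  have hiso : ∀ d : ℤ, Nonempty (CohB1.tensorMod F (O (gfst r S) d) ≅ KRR.twF r S d F) := fun d =>
    cl_eq_iff.1 (by rw [cl_tensor, KRRReg.cl_twF, mul_comm])
  have hfp : ∀ d : ℤ, CohB1.IsFP (KRR.twF r S d F) := fun d =>
    (SheafOfModules.isFinitePresentation (R := (KRR.PY r S).ringCatSheaf)).prop_of_iso (hiso d).some (HilbSnap.isFP_tensor_invertible hF (hO d))
  have hflat : ∀ d : ℤ, FlatMod.IsFlatOver (KRR.pr r S) (KRR.twF r S d F) := fun d =>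
    QCoh.isFlatOver_of_iso (hiso d).some (QCoh.isQCoh_of_isFP (HilbSnap.isFP_tensor_invertible hF (hO d))) (TwistFlat.isFlatOver_tensor _ (hO d) hfl)
  choose U hU using fun (d : ℕ) (q : Fin r) =>
    PBC.exists_opens_fiberH (KRR.pr r S) (KRR.twF r S ((d : ℤ) - ((q : ℕ) + 1 : ℕ)) F) (hfp _) (hflat _) ((q : ℕ) + 1)
  choose d₀ hd₀ using fun y : S => exists_fiber_bound (r := r) y hF
  let W : S → Set S := fun y => ⋂ q : Fin r, (U (d₀ y + r) q : Set S)
  have hmem : ∀ y, y ∈ W y := fun y => Set.mem_iInter.2 fun q => (hU _ q y).2 (by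
    have := hd₀ y (d₀ y + r - ((q : ℕ) + 1)) (by omega) q
    rwa [show ((d₀ y + r - ((q : ℕ) + 1) : ℕ) : ℤ) = ((d₀ y + r : ℕ) : ℤ) - ((q : ℕ) + 1 : ℕ) by omega] at this)
  obtain ⟨t, ht⟩ := isCompact_univ.elim_finite_subcover W
    (fun y => isOpen_iInter_of_finite fun q => (U _ q).2) (fun y _ => Set.mem_iUnion.2 ⟨y, hmem y⟩)
  refine ⟨t.sup (fun y => d₀ y + r), fun d hd z q hq => ?_⟩
  obtain ⟨y, hy, hz⟩ := Set.mem_iUnion₂.1 (ht (Set.mem_univ z))
  have hle : d₀ y + r ≤ d := (Finset.le_sup (f := fun y => d₀ y + r) hy).trans hd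
  exact fiber_of_reg z (QCoh.isQCoh_of_isFP hF) ((d₀ y + r : ℕ) : ℤ)
    (fun q => (hU _ q z).1 (Set.mem_iInter.1 hz q)) _ (by omega) q hq

/-- Vanishing and local freeness of pushforwards of large twists. -/
theorem eventually_push [CompactSpace S] (hF : CohB1.IsFP F) (hfl : FlatMod.IsFlatOver (KRR.pr r S) F) :
    ∃ n₀ : ℕ, ∀ n : ℕ, n₀ ≤ n →
      (∀ q : ℕ, 1 ≤ q → IsZero ((Coh.RpushAb (KRR.pr r S) q).obj (Coh.toAb (KRR.twF r S (n : ℤ) F)))) ∧
      FlatMod.IsFinLocFree ((Scheme.Modules.pushforward (KRR.pr r S)).obj (KRR.twF r S (n : ℤ) F)) := by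
  haveI := KRRReg.isProper_pr (n := r) (T := S)
  haveI := lfp_pr (r := r) (S := S)
  have hO : ∀ d : ℤ, PicF.IsInvertible (O (gfst r S) d) := fun d =>
    PicClLib.isInvertible_pullback _ (TwistFlat.isInvertible_twistProjSpace r _)
  have hiso : ∀ d : ℤ, Nonempty (CohB1.tensorMod F (O (gfst r S) d) ≅ KRR.twF r S d F) := fun d =>
    cl_eq_iff.1 (by rw [cl_tensor, KRRReg.cl_twF, mul_comm])
  obtain ⟨N, hN⟩ := exists_uniform_bound hF hfl
  refine ⟨N, fun n hn => ?_⟩
  let M := KRR.twF r S (n : ℤ) F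
  have hfp : CohB1.IsFP M := (SheafOfModules.isFinitePresentation (R := (KRR.PY r S).ringCatSheaf)).prop_of_iso (hiso _).some (HilbSnap.isFP_tensor_invertible hF (hO _))
  have hflat : FlatMod.IsFlatOver (KRR.pr r S) M :=
    QCoh.isFlatOver_of_iso (hiso _).some (QCoh.isQCoh_of_isFP (HilbSnap.isFP_tensor_invertible hF (hO _))) (TwistFlat.isFlatOver_tensor _ (hO _) hfl)
  refine ⟨fun q hq => ?_, ?_⟩
  · obtain ⟨p, rfl⟩ := Nat.exists_eq_add_of_le' hq
    have hz := PBC.isZero_restrict_of_fiberH (KRR.pr r S) M hfp hflat (p + 1) ⊤ (fun y _ => hN n hn y _ hq)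
    refine (KRRReg.isZero_RpushAb_iff M (QCoh.isQCoh_of_isFP hfp) p).2 fun V => ?_
    obtain ⟨e⟩ := QCoh.nonempty_sections_HH (f := KRR.pr r S) (QCoh.isQCoh_of_isFP hfp) V.2 (p + 1)
    haveI : Subsingleton Γ((Coh.Rpush (KRR.pr r S) (p + 1)).obj M, V.1) := by
      have hVt : (⊤ : S.Opens).ι ''ᵁ ((⊤ : S.Opens).ι ⁻¹ᵁ V.1) = V.1 := by
        rw [Scheme.Hom.image_preimage_eq_opensRange_inf, Scheme.Opens.opensRange_ι, top_inf_eq]
      have : Subsingleton Γ((Coh.Rpush (KRR.pr r S) (p + 1)).obj M, (⊤ : S.Opens).ι ''ᵁ ((⊤ : S.Opens).ι ⁻¹ᵁ V.1)) :=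
        subsingleton_of_forall_eq 0 fun z =>
          congr(($(hz.eq_of_src (𝟙 _) 0)).app ((⊤ : S.Opens).ι ⁻¹ᵁ V.1) z)
      rwa [hVt] at this
    exact e.symm.toEquiv.subsingleton
  · have h0 := PBC.isFinLocFree_restrict_of_fiberH (KRR.pr r S) M hfp hflat 0 ⊤
      (fun y _ => hN n hn y 1 le_rfl) (fun y _ j hj => absurd hj (Nat.succ_ne_zero j))
    let R0 := (Coh.Rpush (KRR.pr r S) 0).obj M
    have h1 : FlatMod.IsFinLocFree R0 := by
      let g := (Scheme.topIso S).inv
      have hg : g ≫ (⊤ : S.Opens).ι = 𝟙 S := by simp [g]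
      exact H23.PullPush.isFinLocFree_of_iso
        ((Scheme.Modules.pullbackComp g _).app R0 ≪≫ (Scheme.Modules.pullbackCongr hg).app R0 ≪≫
          (Scheme.Modules.pullbackId S).app R0)
        (KFlatLib.isFinLocFree_pullback g (H23.PullPush.isFinLocFree_of_iso
          ((Scheme.Modules.restrictFunctorIsoPullback (⊤ : S.Opens).ι).app R0) h0))
    haveI := QCoh.preservesFiniteLimits_push (KRR.pr r S)
    exact H23.PullPush.isFinLocFree_of_iso
      ((Scheme.Modules.pushforward (KRR.pr r S)).rightDerivedZeroIsoSelf.app M) h1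

end Groth.Agent.H6KP
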