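import Groth.Agent.H6KP.Eventually
import Groth.Agent.KRRReg.KMaps

/-!
# Classes of pushforwards of large twists over a quasi-compact base
-/

set_option autoImplicit false
set_option linter.style.haveILetI false
set_option linter.unusedSectionVars false
set_option backward.isDefEq.respectTransparency false
set_option backward.isDefEq.respectTransparency.types false
set_option maxHeartbeats 800000

universe u

open CategoryTheory CategoryTheory.Limits AlgebraicGeometry TopologicalSpace Opposite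

noncomputable section

namespace Groth.Agent.H6KP

open Groth.Agent Groth.Agent.H23.PicMul
open Groth.Agent.KRRReg (Pz Zu O tw gfst Reg UV tg)

variable {r : ℕ} {S : Scheme.{u}}

/-- Pushforward is exact when the first higher direct image of the kernel vanishes. -/
theorem shortExact_push {T : ShortComplex (KRR.PY r S).Modules} (hT : T.ShortExact) (h₁ : Coh.IsQCoh T.X₁)
    (hz₁ : IsZero ((Coh.RpushAb (KRR.pr r S) 1).obj (Coh.toAb T.X₁))) :
    (T.map (Scheme.Modules.pushforward (KRR.pr r S))).ShortExact := by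
  haveI := KRRReg.isProper_pr (n := r) (T := S)
  haveI := hT.mono_f
  have hsurj : ∀ V : S.affineOpens, Function.Surjective (T.g.app (UV r V.1)) := fun V => by
    have hz := (KRRReg.isZero_RpushAb_iff T.X₁ h₁ 0).1 hz₁ V
    have h := QCoh.app_top_surjective_of_HH_one (KRRReg.shortExact_UV hT V.1) hz
    have hW : (UV r V.1).ι ''ᵁ (⊤ : (UV r V.1).toScheme.Opens) = UV r V.1 := by simp
    have h' : Function.Surjective (T.g.app ((UV r V.1).ι ''ᵁ ⊤)) := h
    rwa [hW] at h'
  haveI : Epi ((Scheme.Modules.pushforward (KRR.pr r S)).map T.g) := by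
    refine Preadditive.epi_of_cancel_zero _ fun {W} z hz => ?_
    refine Scheme.Modules.hom_ext _ _ fun U => ?_
    ext s
    refine TopCat.Presheaf.section_ext ⟨W.presheaf, W.isSheaf⟩ _ _ _ fun y hy => ?_
    obtain ⟨_, ⟨V, hV, rfl⟩, hyV, hVU⟩ :=
      S.isBasis_affineOpens.exists_subset_of_mem_open hy U.isOpen
    have hres : ∀ t, z.app V t = 0 := fun t => by
      obtain ⟨r, hr⟩ := hsurj ⟨V, hV⟩ t
      rw [← hr]
      exact congr(($hz).app V r)
    let i : V ⟶ U := homOfLE hVU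
    refine Eq.trans (W.presheaf.germ_res_apply i y hyV (z.app U s)).symm ?_
    refine Eq.trans ?_ (map_zero (W.presheaf.germ U y hy).hom).symm
    refine (congrArg (W.presheaf.germ V y hyV) ?_).trans (map_zero (W.presheaf.germ V y hyV).hom)
    exact (QCoh.map_app_comm z i s).symm.trans (hres _)
  haveI : PreservesFiniteLimits (Scheme.Modules.pushforward (KRR.pr r S)) := QCoh.preservesFiniteLimits_push _
  have hm : Mono ((Scheme.Modules.pushforward (KRR.pr r S)).map T.f) := inferInstance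
  exact ShortComplex.ShortExact.mk' (hT.exact.map_of_mono_of_preservesKernel _ inferInstance inferInstance) hm ‹_›

/-- Large twists of a bundle push to bundles, without higher direct images. -/
theorem good [CompactSpace S] {F : (KRR.PY r S).Modules} (hF : FlatMod.IsFinLocFree F) :
    ∃ n₀ : ℕ, ∀ n : ℕ, n₀ ≤ n →
      (∀ q : ℕ, 1 ≤ q → IsZero ((Coh.RpushAb (KRR.pr r S) q).obj (Coh.toAb (KRR.twF r S (n : ℤ) F)))) ∧
      FlatMod.IsFinLocFree ((Scheme.Modules.pushforward (KRR.pr r S)).obj (KRR.twF r S (n : ℤ) F)) :=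
  eventually_push (QCoh.isFP_of_isFinLocFree hF) (KRRReg.isFlatOver_finLocFree hF)

/-- Functions vanishing eventually. -/
def evZero (G : Type*) [AddCommGroup G] : AddSubgroup (ℕ → G) where
  carrier := {f | ∃ N, ∀ n, N ≤ n → f n = 0}
  zero_mem' := ⟨0, fun _ _ => rfl⟩
  add_mem' := by
    rintro a b ⟨M, hM⟩ ⟨N, hN⟩
    exact ⟨max M N, fun n hn => by simp [hM n (le_of_max_le_left hn), hN n (le_of_max_le_right hn)]⟩
  neg_mem' := by
    rintro a ⟨M, hM⟩
    exact ⟨M, fun n hn => by simp [hM n hn]⟩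

/-- Classes of isomorphic bundles agree. -/
theorem cl_iso {X : Scheme.{u}} {A B : X.Modules} (e : A ≅ B) (h : FlatMod.IsFinLocFree A) :
    KRR.cl X A = KRR.cl X B :=
  KZ.clSub_iso (KRR.vbP X) e h (H23.PullPush.isFinLocFree_of_iso e h) (isZero_zero _)
    (KRRReg.isFinLocFree_zero (isZero_zero _))

/-- The class of the pushforward of a twist. -/
def pushCls (F : (KRR.PY r S).Modules) (n : ℕ) : SGA6.Kvb S :=
  KRR.cl S ((Scheme.Modules.pushforward (KRR.pr r S)).obj (KRR.twF r S (n : ℤ) F))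

/-- The classes of pushforwards of large twists are additive. -/
theorem exists_pushHom [CompactSpace S] :
    ∃ χ : SGA6.Kvb (KRR.PY r S) →+ (ℕ → SGA6.Kvb S) ⧸ evZero (SGA6.Kvb S),
      ∀ F, FlatMod.IsFinLocFree F → χ (KRR.cl (KRR.PY r S) F) = QuotientAddGroup.mk (pushCls F) := by
  have hadd : ∀ T : ShortComplex (KRR.PY r S).Modules, T.ShortExact → FlatMod.IsFinLocFree T.X₁ →
      FlatMod.IsFinLocFree T.X₂ → FlatMod.IsFinLocFree T.X₃ →
      (QuotientAddGroup.mk (pushCls T.X₂) : (ℕ → SGA6.Kvb S) ⧸ evZero (SGA6.Kvb S)) =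
        QuotientAddGroup.mk (pushCls T.X₁) + QuotientAddGroup.mk (pushCls T.X₃) := by
    intro T hT h₁ h₂ h₃
    obtain ⟨a, ha⟩ := good (r := r) h₁
    obtain ⟨b, hb⟩ := good (r := r) h₂
    obtain ⟨c, hc⟩ := good (r := r) h₃
    rw [← QuotientAddGroup.mk_add, QuotientAddGroup.eq]
    refine ⟨max a (max b c), fun n hn => ?_⟩
    have hn' : a ≤ n ∧ b ≤ n ∧ c ≤ n := ⟨by omega, by omega, by omega⟩
    have key : pushCls T.X₂ n = pushCls T.X₁ n + pushCls T.X₃ n := by
      obtain ⟨e₁⟩ := KRRReg.tg_iso T.X₁ (n : ℤ)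
      obtain ⟨e₂⟩ := KRRReg.tg_iso T.X₂ (n : ℤ)
      obtain ⟨e₃⟩ := KRRReg.tg_iso T.X₃ (n : ℤ)
      let π := Scheme.Modules.pushforward (KRR.pr r S)
      have q₁ := QCoh.isQCoh_of_isFinLocFree (KRRReg.isFinLocFree_tg h₁ (n : ℤ))
      have hz := KRRReg.isZero_RpushAb_of_iso e₁.symm 1 ((ha n hn'.1).1 1 le_rfl)
      have hse := shortExact_push (KRRReg.shortExact_tw (g := gfst r S) hT (n : ℤ)) q₁ hz
      have v₁ := H23.PullPush.isFinLocFree_of_iso (π.mapIso e₁.symm) (ha n hn'.1).2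
      have v₂ := H23.PullPush.isFinLocFree_of_iso (π.mapIso e₂.symm) (hb n hn'.2.1).2
      have v₃ := H23.PullPush.isFinLocFree_of_iso (π.mapIso e₃.symm) (hc n hn'.2.2).2
      show KRR.cl S _ = KRR.cl S _ + KRR.cl S _
      rw [← cl_iso (π.mapIso e₁) v₁, ← cl_iso (π.mapIso e₂) v₂,
        ← cl_iso (π.mapIso e₃) v₃]
      exact KZ.clSub_ses (KRR.vbP S) hse v₁ v₂ v₃
    simp [Pi.neg_apply, Pi.add_apply, key]
  exact KZ.exists_liftSub (KRR.vbP (KRR.PY r S))
    (fun F => (QuotientAddGroup.mk (pushCls F) : (ℕ → SGA6.Kvb S) ⧸ evZero (SGA6.Kvb S)))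
    (fun T hT h₁ h₂ h₃ => hadd T hT h₁ h₂ h₃)

/-- Equal classes have equal classes of pushforwards of large twists. -/
theorem cl_push_eq [CompactSpace S] {F G : (KRR.PY r S).Modules} (hF : FlatMod.IsFinLocFree F)
    (hG : FlatMod.IsFinLocFree G) (h : KRR.cl (KRR.PY r S) F = KRR.cl (KRR.PY r S) G) :
    ∃ n₀ : ℕ, ∀ n : ℕ, n₀ ≤ n →
      FlatMod.IsFinLocFree ((Scheme.Modules.pushforward (KRR.pr r S)).obj (KRR.twF r S (n : ℤ) F)) ∧
      FlatMod.IsFinLocFree ((Scheme.Modules.pushforward (KRR.pr r S)).obj (KRR.twF r S (n : ℤ) G)) ∧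
      pushCls F n = pushCls G n := by
  obtain ⟨χ, hχ⟩ := exists_pushHom (r := r) (S := S)
  have := congrArg χ h
  rw [hχ F hF, hχ G hG, QuotientAddGroup.eq] at this
  obtain ⟨N, hN⟩ := this
  obtain ⟨a, ha⟩ := good (r := r) hF
  obtain ⟨b, hb⟩ := good (r := r) hG
  refine ⟨max N (max a b), fun n hn => ⟨(ha n (by omega)).2, (hb n (by omega)).2, ?_⟩⟩
  have := hN n (by omega)
  simpa [neg_add_eq_zero] using this

end Groth.Agent.H6KP
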